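import Cfsg.Agent.TensorNonmax.Basic

/-!
# Tensor powers in coordinates

`ptmul e P xs` is the pure tensor of the family `xs`, `slotOp e P i` is the algebra map sending a matrix to
its action on the `i`-th tensor factor.  The tensor-wreath stabiliser permutes slots and conjugates.
-/

namespace CfsgLib.TensorNonmax

open scoped Matrix
open Cfsg

variable {ι : Type} [Fintype ι] [DecidableEq ι] {F : Type*} [Field F] {k t : ℕ}

/-- The linear action of a matrix on the `i`-th slot of coordinates. -/
def slotLin (i : Fin t) (M : Matrix (Fin k) (Fin k) F) :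
    ((Fin t → Fin k) → F) →ₗ[F] ((Fin t → Fin k) → F) where
  toFun x b := ∑ r, M (b i) r * x (Function.update b i r)
  map_add' x y := by funext b; simp [mul_add, Finset.sum_add_distrib]
  map_smul' c x := by funext b; simp [Finset.mul_sum, mul_left_comm]

lemma slotLin_apply (i : Fin t) (M : Matrix (Fin k) (Fin k) F) (x : (Fin t → Fin k) → F) (b : Fin t → Fin k) :
    slotLin i M x b = ∑ r, M (b i) r * x (Function.update b i r) := rfl

/-- The action on the `i`-th slot as an algebra map into matrices on coordinates. -/
def slotHom (i : Fin t) : Matrix (Fin k) (Fin k) F →ₐ[F] Matrix (Fin t → Fin k) (Fin t → Fin k) F :=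
  AlgHom.ofLinearMap
    { toFun := fun M => LinearMap.toMatrix' (slotLin i M)
      map_add' := fun M N => by
        rw [← map_add]
        congr 1
        ext x b
        simp [slotLin_apply, add_mul, Finset.sum_add_distrib]
      map_smul' := fun c M => by
        rw [RingHom.id_apply, ← map_smul]
        congr 1
        ext x b
        simp [slotLin_apply, Finset.mul_sum, mul_assoc] }
    (by
      change LinearMap.toMatrix' (slotLin i (1 : Matrix (Fin k) (Fin k) F)) = 1
      refine (congrArg LinearMap.toMatrix' ?_).trans LinearMap.toMatrix'_id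
      apply LinearMap.ext
      intro x
      funext b
      rw [slotLin_apply, Finset.sum_eq_single (b i)]
      · rw [Matrix.one_apply_eq, one_mul, Function.update_eq_self]; rfl
      · intro r _ hr; rw [Matrix.one_apply_ne hr.symm, zero_mul]
      · intro h; exact absurd (Finset.mem_univ _) h)
    (fun M N => by
      change LinearMap.toMatrix' (slotLin i (M * N)) =
        LinearMap.toMatrix' (slotLin i M) * LinearMap.toMatrix' (slotLin i N)
      rw [← LinearMap.toMatrix'_comp]
      congr 1
      apply LinearMap.ext
      intro x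
      funext b
      simp only [LinearMap.comp_apply, slotLin_apply, Matrix.mul_apply, Function.update_self,
        Function.update_idem, Finset.sum_mul, Finset.mul_sum, mul_assoc]
      exact Finset.sum_comm)

lemma slotHom_mulVec (i : Fin t) (M : Matrix (Fin k) (Fin k) F) (x : (Fin t → Fin k) → F) :
    slotHom i M *ᵥ x = slotLin i M x := by
  change LinearMap.toMatrix' (slotLin i M) *ᵥ x = _
  rw [← Matrix.toLin'_apply, Matrix.toLin'_toMatrix']

variable (e : ι ≃ (Fin t → Fin k)) (P : GL ι F)

/-- The action on the `i`-th factor of the decomposition given by `(e, P)`. -/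
def slotOp (i : Fin t) : Matrix (Fin k) (Fin k) F →ₐ[F] Matrix ι ι F where
  toFun M := (P : Matrix ι ι F) * Matrix.reindexAlgEquiv F F e.symm (slotHom i M) *
    ((P⁻¹ : GL ι F) : Matrix ι ι F)
  map_one' := by rw [map_one, map_one, mul_one, ← Units.val_mul, mul_inv_cancel, Units.val_one]
  map_mul' M N := by
    rw [map_mul, map_mul]
    simp only [mul_assoc]
    rw [← mul_assoc ((P⁻¹ : GL ι F) : Matrix ι ι F) (P : Matrix ι ι F), ← Units.val_mul, inv_mul_cancel,
      Units.val_one, one_mul]
  map_zero' := by simp
  map_add' M N := by rw [map_add, map_add, mul_add, add_mul]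
  commutes' c := by
    rw [AlgHom.commutes, AlgEquiv.commutes, Algebra.algebraMap_eq_smul_one, Matrix.mul_smul, mul_one,
      Matrix.smul_mul, ← Units.val_mul, mul_inv_cancel, Units.val_one]

lemma slotOp_cvec (i : Fin t) (M : Matrix (Fin k) (Fin k) F) (x : (Fin t → Fin k) → F) :
    slotOp e P i M *ᵥ cvec e P x = cvec e P (slotLin i M x) := by
  change ((P : Matrix ι ι F) * Matrix.reindexAlgEquiv F F e.symm (slotHom i M) *
    ((P⁻¹ : GL ι F) : Matrix ι ι F)) *ᵥ cvec e P x = _
  rw [cvec_apply, cvec_apply, Matrix.mulVec_mulVec, mul_assoc _ _ (P : Matrix ι ι F), ← Units.val_mul,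
    inv_mul_cancel, Units.val_one, mul_one, ← Matrix.mulVec_mulVec, ← slotHom_mulVec]
  congr 1
  rw [Matrix.coe_reindexAlgEquiv, Matrix.reindex_apply, Matrix.submatrix_mulVec_equiv]
  simp [Function.comp_assoc]

/-- The pure tensor of a family of vectors. -/
def ptmul (xs : Fin t → (Fin k → F)) : ι → F := cvec e P (fun a => ∏ i, xs i (a i))

lemma prod_update_apply (xs : Fin t → (Fin k → F)) (i : Fin t) (z : Fin k → F) (a : Fin t → Fin k) :
    ∏ j, Function.update xs i z j (a j) = z (a i) * ∏ j ∈ Finset.univ.erase i, xs j (a j) := by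
  rw [← Finset.mul_prod_erase Finset.univ _ (Finset.mem_univ i), Function.update_self]
  congr 1
  exact Finset.prod_congr rfl fun j hj => by rw [Function.update_of_ne (Finset.mem_erase.mp hj).1]

lemma ptmul_update_add (xs : Fin t → (Fin k → F)) (i : Fin t) (y z : Fin k → F) :
    ptmul e P (Function.update xs i (y + z)) =
      ptmul e P (Function.update xs i y) + ptmul e P (Function.update xs i z) := by
  rw [ptmul, ptmul, ptmul, ← map_add]
  congr 1
  funext a
  simp only [Pi.add_apply, prod_update_apply, add_mul]

lemma ptmul_update_zero (xs : Fin t → (Fin k → F)) (i : Fin t) :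
    ptmul e P (Function.update xs i 0) = 0 := by
  rw [ptmul, show (fun a => ∏ j, Function.update xs i 0 j (a j)) = (0 : (Fin t → Fin k) → F) from
    funext fun a => by rw [prod_update_apply]; simp]
  exact map_zero _

lemma slotOp_ptmul (i : Fin t) (M : Matrix (Fin k) (Fin k) F) (xs : Fin t → (Fin k → F)) :
    slotOp e P i M *ᵥ ptmul e P xs = ptmul e P (Function.update xs i (M *ᵥ xs i)) := by
  rw [ptmul, ptmul, slotOp_cvec]
  congr 1
  funext b
  rw [slotLin_apply, prod_update_apply, Matrix.mulVec, dotProduct, Finset.sum_mul]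
  refine Finset.sum_congr rfl fun r _ => ?_
  rw [← Finset.mul_prod_erase Finset.univ _ (Finset.mem_univ i), Function.update_self, mul_assoc]
  congr 2
  exact Finset.prod_congr rfl fun j hj => by rw [Function.update_of_ne (Finset.mem_erase.mp hj).1]

/-- The pure tensor of standard basis vectors. -/
lemma ptmul_single (q : Fin t → Fin k) :
    ptmul e P (fun i => Pi.single (q i) (1 : F)) = cvec e P (Pi.single q 1) := by
  rw [ptmul]
  congr 1
  funext a
  simp only [Pi.single_apply, Fintype.prod_boole]
  by_cases h : a = q
  · subst h; simp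
  · rw [if_neg h, if_neg fun h' => h (funext h')]

lemma span_ptmul : Submodule.span F (Set.range (ptmul e P)) = ⊤ := by
  rw [eq_top_iff]
  rintro v -
  obtain ⟨x, rfl⟩ := cvec_surjective e P v
  rw [← Finset.univ_sum_single x, map_sum]
  refine Submodule.sum_mem _ fun a _ => ?_
  rw [show Pi.single a (x a) = x a • Pi.single a (1 : F) by
      rw [← Pi.single_smul', smul_eq_mul, mul_one], map_smul, ← ptmul_single e P a]
  exact Submodule.smul_mem _ _ (Submodule.subset_span ⟨_, rfl⟩)

lemma ext_ptmul {A B : Matrix ι ι F} (h : ∀ xs, A *ᵥ ptmul e P xs = B *ᵥ ptmul e P xs) : A = B := by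
  have hl : Matrix.toLin' A = Matrix.toLin' B :=
    LinearMap.ext_on (span_ptmul e P) fun v hv => by
      obtain ⟨xs, rfl⟩ := hv
      simpa using h xs
  exact Matrix.toLin'.injective hl

lemma slotOp_comm {i j : Fin t} (hij : i ≠ j) (M N : Matrix (Fin k) (Fin k) F) :
    slotOp e P i M * slotOp e P j N = slotOp e P j N * slotOp e P i M := by
  refine ext_ptmul e P fun xs => ?_
  rw [← Matrix.mulVec_mulVec, ← Matrix.mulVec_mulVec, slotOp_ptmul, slotOp_ptmul, slotOp_ptmul, slotOp_ptmul,
    Function.update_of_ne hij, Function.update_of_ne hij.symm, Function.update_comm hij]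

/-- Only scalars commute with the action on every slot. -/
lemma eq_smul_one_of_commute_slotOp [Nonempty (Fin k)] {A : Matrix ι ι F}
    (h : ∀ i M, slotOp e P i M * A = A * slotOp e P i M) : ∃ c : F, A = c • (1 : Matrix ι ι F) := by
  classical
  -- the image of each basis tensor is a multiple of it
  have hdiag : ∀ q, ∃ d : F, A *ᵥ cvec e P (Pi.single q 1) = d • cvec e P (Pi.single q 1) := by
    intro q
    obtain ⟨x, hx⟩ := cvec_surjective e P (A *ᵥ cvec e P (Pi.single q 1))
    refine ⟨x q, ?_⟩
    rw [← hx, ← map_smul]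
    congr 1
    funext b
    by_cases hb : b = q
    · subst hb; simp
    · obtain ⟨i, hi⟩ := Function.ne_iff.mp hb
      have h1 := congrArg (fun C : Matrix ι ι F => C *ᵥ cvec e P (Pi.single q 1))
        (h i (Matrix.single (q i) (q i) 1))
      simp only [← Matrix.mulVec_mulVec, ← hx, slotOp_cvec] at h1
      have hq : slotLin i (Matrix.single (q i) (q i) (1 : F)) (Pi.single q 1) = Pi.single q 1 := by
        funext c
        rw [slotLin_apply, Finset.sum_eq_single (q i)]
        · by_cases hc : c i = q i
          · rw [← hc, Function.update_eq_self, Matrix.single_apply_same, one_mul]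
          · rw [Matrix.single_apply, if_neg (fun h => hc h.1.symm), zero_mul,
              Pi.single_eq_of_ne (fun h => hc (by rw [h]))]
        · intro r _ hr
          rw [Matrix.single_apply, if_neg (fun h => hr h.2.symm), zero_mul]
        · intro h; exact absurd (Finset.mem_univ _) h
      rw [hq, ← hx] at h1
      have h2 := congrFun (cvec_injective e P h1) b
      rw [slotLin_apply, Finset.sum_eq_zero (fun r _ => by
        rw [Matrix.single_apply, if_neg (fun h => hi h.1.symm), zero_mul])] at h2
      simp [← h2, Pi.single_eq_of_ne hb]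
  choose d hd using hdiag
  have hstep : ∀ q i p, d (Function.update q i p) = d q := by
    intro q i p
    have h1 := congrArg (fun C : Matrix ι ι F => C *ᵥ cvec e P (Pi.single q 1))
      (h i (Matrix.single p (q i) 1))
    have hq : slotLin i (Matrix.single p (q i) (1 : F)) (Pi.single q 1) =
        Pi.single (Function.update q i p) 1 := by
      funext c
      rw [slotLin_apply, Finset.sum_eq_single (q i)]
      · by_cases hc : c = Function.update q i p
        · subst hc
          simp
        · rw [Pi.single_eq_of_ne hc, Matrix.single_apply]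
          by_cases hp : c i = p
          · rw [Pi.single_eq_of_ne, mul_zero]
            intro h
            apply hc
            rw [← h, Function.update_idem, ← hp, Function.update_eq_self]
          · rw [if_neg (fun h => hp h.1.symm), zero_mul]
      · intro r _ hr
        rw [Matrix.single_apply, if_neg (fun h => hr h.2.symm), zero_mul]
      · intro h; exact absurd (Finset.mem_univ _) h
    simp only [← Matrix.mulVec_mulVec, hd, Matrix.mulVec_smul, slotOp_cvec, hq] at h1
    rw [← map_smul, ← map_smul] at h1
    have h2 := congrFun (cvec_injective e P h1) (Function.update q i p)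
    simpa using h2.symm
  have hall : ∀ q q', d q = d q' := by
    intro q q'
    have key : ∀ s : Finset (Fin t), d (fun i => if i ∈ s then q' i else q i) = d q := by
      intro s
      induction s using Finset.induction_on with
      | empty => simp
      | @insert a s ha ih =>
        rw [← ih, ← hstep (fun i => if i ∈ s then q' i else q i) a (q' a)]
        congr 1
        funext i
        by_cases hia : i = a
        · subst hia; simp
        · simp [hia]
    simpa using (key Finset.univ).symm
  refine ⟨d (fun _ => Classical.arbitrary _), ext_ptmul e P fun xs => ?_⟩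
  rw [Matrix.smul_mulVec, Matrix.one_mulVec, ptmul]
  generalize (fun a : Fin t → Fin k => ∏ i, xs i (a i)) = x
  rw [← Finset.univ_sum_single x, map_sum, Matrix.mulVec_sum, Finset.smul_sum]
  refine Finset.sum_congr rfl fun a _ => ?_
  rw [show Pi.single a (x a) = x a • Pi.single a (1 : F) by
      rw [← Pi.single_smul', smul_eq_mul, mul_one], map_smul, Matrix.mulVec_smul, hd,
    hall a (fun _ => Classical.arbitrary _), smul_comm]

/-- The tensor-wreath stabiliser acts on pure tensors slotwise, permuting the slots. -/
lemma mem_tensorWreathSubgroup [Fintype F] {g : GL ι F} (hg : g ∈ Geo.tensorWreathSubgroup k t e P) :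
    ∃ (σ : Equiv.Perm (Fin t)) (as : Fin t → GL (Fin k) F), ∀ xs, (g : Matrix ι ι F) *ᵥ ptmul e P xs =
      ptmul e P (fun i => (as i : Matrix (Fin k) (Fin k) F) *ᵥ xs (σ i)) := by
  classical
  obtain ⟨_, ⟨m, hm, rfl⟩, rfl⟩ := hg
  simp only [MulEquiv.toMonoidHom_eq_coe, MonoidHom.coe_coe]
  suffices h : ∃ (σ : Equiv.Perm (Fin t)) (as : Fin t → GL (Fin k) F), ∀ xs : Fin t → (Fin k → F),
      (m : Matrix (Fin t → Fin k) (Fin t → Fin k) F) *ᵥ (fun a => ∏ i, xs i (a i)) =
        fun a => ∏ i, ((as i : Matrix (Fin k) (Fin k) F) *ᵥ xs (σ i)) (a i) by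
    obtain ⟨σ, as, h⟩ := h
    exact ⟨σ, as, fun xs => by rw [ptmul, ptmul, conj_reindex_cvec, h]⟩
  have hm' : m ∈ Submonoid.closure
      {g : GL (Fin t → Fin k) F | Geo.IsPureTensor k t g ∨ Geo.IsFactorPermutation k t g} := by
    rw [← Subgroup.closure_toSubmonoid_of_finite]
    exact hm
  clear hm
  induction hm' using Submonoid.closure_induction with
  | one => exact ⟨1, 1, fun xs => by simp⟩
  | mem g hg =>
    rcases hg with ⟨gs, hgs⟩ | ⟨σ, hσ⟩
    · refine ⟨1, gs, fun xs => funext fun a => ?_⟩
      simp only [Matrix.mulVec, dotProduct, hgs, Equiv.Perm.one_apply, ← Finset.prod_mul_distrib]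
      rw [Fintype.prod_sum]
    · refine ⟨σ⁻¹, 1, fun xs => funext fun a => ?_⟩
      simp only [Matrix.mulVec, dotProduct, hσ, ite_mul, one_mul, zero_mul, Finset.sum_ite_eq', Finset.mem_univ,
        if_true, Function.comp_apply, Pi.one_apply, Units.val_one, Matrix.one_apply, Finset.sum_ite_eq]
      exact (Equiv.prod_comp σ⁻¹ (fun i => xs i (a (σ i)))).symm.trans (by simp)
  | mul g h _ _ ihg ihh =>
    obtain ⟨σ, as, hg⟩ := ihg
    obtain ⟨τ, bs, hh⟩ := ihh
    refine ⟨τ * σ, fun i => as i * bs (σ i), fun xs => ?_⟩
    rw [Units.val_mul, ← Matrix.mulVec_mulVec, hh, hg]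
    funext a
    simp [Matrix.mulVec_mulVec, Equiv.Perm.mul_apply]

variable {f : (ι → F) → (ι → F) → F} {f₁ : (Fin k → F) → (Fin k → F) → F}

/-- The form on pure tensors. -/
lemma form_ptmul (hb : Geo.IsBilinearForm f₁) (hT : Geo.IsTensorPowerFormStructure id f f₁ e P) :
    ∃ c : F, c ≠ 0 ∧ ∀ xs ys, f (ptmul e P xs) (ptmul e P ys) = c * ∏ i, f₁ (xs i) (ys i) := by
  classical
  obtain ⟨c, hc, hf⟩ := hT
  refine ⟨c, hc, fun xs ys => ?_⟩
  rw [ptmul, ptmul, cvec_apply, cvec_apply, hf]
  congr 1
  have h1 : ∀ i, f₁ (xs i) (ys i) = ∑ p, ∑ q, xs i p * Geo.gramMatrix f₁ p q * ys i q := fun i => by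
    rw [← formOfGram_gramMatrix hb]; rfl
  simp only [h1, Fintype.prod_sum, id, Finset.prod_mul_distrib]

end CfsgLib.TensorNonmax
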