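import Cfsg.Prelude.Def_GeometricClasses

/-!
# Tensor decompositions in coordinates, and elements of `Ω` given by commutators of reflections

`cvec e P x` is the vector with coordinates `x` in the basis of a decomposition given by `(e, P)`;
`tmul e P x y` is the pure tensor.  The action of the tensor stabilisers is described on these vectors.
-/

namespace CfsgLib.TensorNonmax

open scoped Matrix Kronecker
open Cfsg

variable {ι : Type} [Fintype ι] [DecidableEq ι] {F : Type*} [Field F]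
variable {κ : Type} [Fintype κ] [DecidableEq κ]

/-- The vector with coordinates `x` in the basis given by `e` and `P`. -/
def cvec (e : ι ≃ κ) (P : GL ι F) : (κ → F) →ₗ[F] (ι → F) :=
  (Matrix.toLin' (P : Matrix ι ι F)).comp (LinearMap.funLeft F F e)

lemma cvec_apply (e : ι ≃ κ) (P : GL ι F) (x : κ → F) :
    cvec e P x = (P : Matrix ι ι F) *ᵥ (x ∘ e) := rfl

lemma cvec_injective (e : ι ≃ κ) (P : GL ι F) : Function.Injective (cvec e P) := by
  intro x y h
  rw [cvec_apply, cvec_apply] at h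
  have h2 := congrArg (((P⁻¹ : GL ι F) : Matrix ι ι F) *ᵥ ·) h
  simp only [Matrix.mulVec_mulVec, ← Units.val_mul, inv_mul_cancel, Units.val_one, Matrix.one_mulVec] at h2
  funext k
  simpa using congrFun h2 (e.symm k)

lemma cvec_surjective (e : ι ≃ κ) (P : GL ι F) : Function.Surjective (cvec e P) := fun v =>
  ⟨(((P⁻¹ : GL ι F) : Matrix ι ι F) *ᵥ v) ∘ e.symm, by
    rw [cvec_apply, Function.comp_assoc, Equiv.symm_comp_self, Function.comp_id, Matrix.mulVec_mulVec,
      ← Units.val_mul, mul_inv_cancel, Units.val_one, Matrix.one_mulVec]⟩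

/-- Action of a reindexed conjugate on coordinate vectors. -/
lemma conj_reindex_cvec (e : ι ≃ κ) (P : GL ι F) (m : GL κ F) (x : κ → F) :
    ((MulAut.conj P (Geo.glReindex e.symm m) : GL ι F) : Matrix ι ι F) *ᵥ cvec e P x =
      cvec e P ((m : Matrix κ κ F) *ᵥ x) := by
  have hP : ((MulAut.conj P (Geo.glReindex e.symm m) : GL ι F) : Matrix ι ι F) * (P : Matrix ι ι F) =
      (P : Matrix ι ι F) * ((Geo.glReindex e.symm m : GL ι F) : Matrix ι ι F) := by
    rw [← Units.val_mul, ← Units.val_mul, MulAut.conj_apply, inv_mul_cancel_right]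
  rw [cvec_apply, cvec_apply, Matrix.mulVec_mulVec, hP, ← Matrix.mulVec_mulVec]
  congr 1
  change (Matrix.reindex e.symm e.symm (m : Matrix κ κ F)) *ᵥ _ = _
  rw [Matrix.reindex_apply, Matrix.submatrix_mulVec_equiv]
  simp [Function.comp_assoc]

/-- Two invertible matrices agreeing on all vectors are equal. -/
lemma ext_mulVec {g h : GL ι F} (H : ∀ v, (g : Matrix ι ι F) *ᵥ v = (h : Matrix ι ι F) *ᵥ v) : g = h :=
  Units.ext (Matrix.ext_of_mulVec_single fun i => H _)

variable {n₁ n₂ : ℕ}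

/-- The pure tensor of `x` and `y`. -/
def tmul (e : ι ≃ Fin n₁ × Fin n₂) (P : GL ι F) :
    (Fin n₁ → F) →ₗ[F] (Fin n₂ → F) →ₗ[F] (ι → F) :=
  LinearMap.mk₂ F (fun x y => cvec e P (fun a => x a.1 * y a.2))
    (fun x x' y => by rw [← map_add]; congr 1; funext a; simp [add_mul])
    (fun c x y => by rw [← map_smul]; congr 1; funext a; simp [mul_assoc])
    (fun x y y' => by rw [← map_add]; congr 1; funext a; simp [mul_add])
    (fun c x y => by rw [← map_smul]; congr 1; funext a; simp [mul_left_comm])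

lemma tmul_apply (e : ι ≃ Fin n₁ × Fin n₂) (P : GL ι F) (x : Fin n₁ → F) (y : Fin n₂ → F) :
    tmul e P x y = cvec e P (fun a => x a.1 * y a.2) := rfl

lemma tmul_eq_zero (e : ι ≃ Fin n₁ × Fin n₂) (P : GL ι F) {x : Fin n₁ → F} {y : Fin n₂ → F}
    (h : tmul e P x y = 0) : x = 0 ∨ y = 0 := by
  by_contra hc
  push Not at hc
  obtain ⟨i, hi⟩ := Function.ne_iff.mp hc.1
  obtain ⟨j, hj⟩ := Function.ne_iff.mp hc.2
  exact mul_ne_zero hi hj (congrFun (cvec_injective e P (h.trans (map_zero _).symm)) (i, j))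

lemma tmul_left_inj (e : ι ≃ Fin n₁ × Fin n₂) (P : GL ι F) {x x' : Fin n₁ → F} {y : Fin n₂ → F} (hy : y ≠ 0)
    (h : tmul e P x y = tmul e P x' y) : x = x' := by
  have h' : tmul e P (x - x') y = 0 := by rw [map_sub, LinearMap.sub_apply, h, sub_self]
  exact sub_eq_zero.mp ((tmul_eq_zero e P h').resolve_right hy)

lemma tmul_right_inj (e : ι ≃ Fin n₁ × Fin n₂) (P : GL ι F) {x : Fin n₁ → F} {y y' : Fin n₂ → F} (hx : x ≠ 0)
    (h : tmul e P x y = tmul e P x y') : y = y' := by
  have h' : tmul e P x (y - y') = 0 := by rw [map_sub, h, sub_self]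
  exact sub_eq_zero.mp ((tmul_eq_zero e P h').resolve_left hx)

/-- The pure tensors span. -/
lemma span_tmul (e : ι ≃ Fin n₁ × Fin n₂) (P : GL ι F) :
    Submodule.span F {v : ι → F | ∃ x y, tmul e P x y = v} = ⊤ := by
  rw [eq_top_iff]
  rintro v -
  obtain ⟨x, rfl⟩ := cvec_surjective e P v
  rw [← Finset.univ_sum_single x, map_sum]
  refine Submodule.sum_mem _ fun a _ => Submodule.subset_span
    ⟨Pi.single a.1 (x a), Pi.single a.2 1, ?_⟩
  rw [tmul_apply]
  congr 1
  funext b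
  obtain ⟨i, j⟩ := a
  obtain ⟨k, l⟩ := b
  simp only [Pi.single_apply, Prod.mk.injEq]
  split_ifs <;> simp_all

/-- Elements of the tensor stabiliser act factorwise. -/
lemma mem_tensorProductSubgroup {e : ι ≃ Fin n₁ × Fin n₂} {P g : GL ι F}
    (hg : g ∈ Geo.tensorProductSubgroup n₁ n₂ e P) :
    ∃ (a : GL (Fin n₁) F) (b : GL (Fin n₂) F), ∀ x y, (g : Matrix ι ι F) *ᵥ tmul e P x y =
      tmul e P ((a : Matrix (Fin n₁) (Fin n₁) F) *ᵥ x) ((b : Matrix (Fin n₂) (Fin n₂) F) *ᵥ y) := by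
  obtain ⟨_, ⟨m, ⟨a, b, hm⟩, rfl⟩, rfl⟩ := hg
  refine ⟨a, b, fun x y => ?_⟩
  rw [tmul_apply, tmul_apply, MulEquiv.toMonoidHom_eq_coe, MonoidHom.coe_coe, MulEquiv.toMonoidHom_eq_coe,
    MonoidHom.coe_coe, conj_reindex_cvec]
  congr 1
  funext ⟨i, j⟩
  rw [hm, Matrix.mulVec, dotProduct, Fintype.sum_prod_type, Matrix.mulVec, dotProduct, Matrix.mulVec, dotProduct,
    Finset.sum_mul_sum]
  refine Finset.sum_congr rfl fun k _ => Finset.sum_congr rfl fun l _ => ?_
  rw [Matrix.kronecker_apply]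
  ring

/-- A bilinear form in coordinates given by its Gram matrix. -/
lemma formOfGram_gramMatrix {n : ℕ} {f : (Fin n → F) → (Fin n → F) → F} (hf : Geo.IsBilinearForm f)
    (x y : Fin n → F) : Geo.formOfGram id (Geo.gramMatrix f) x y = f x y := by
  let B : (Fin n → F) →ₗ[F] (Fin n → F) →ₗ[F] F :=
    LinearMap.mk₂ F f (fun a b c => hf.add_left a b c) (fun a b c => hf.smul_left a b c)
      (fun a b c => hf.add_right a b c) (fun a b c => hf.smul_right a b c)
  have hx : ∀ x : Fin n → F, x = ∑ a, x a • Pi.single a (1 : F) := fun x => by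
    rw [← (Pi.basisFun F (Fin n)).sum_repr x]; simp [Pi.basisFun_apply, Pi.single_apply]
  calc Geo.formOfGram id (Geo.gramMatrix f) x y
      = ∑ a, ∑ b, x a * (B (Pi.single a 1) (Pi.single b 1) * y b) := by
        simp [Geo.formOfGram, Geo.gramMatrix, B, mul_assoc]
    _ = B x y := by
        conv_rhs => rw [hx x, hx y]
        simp [map_sum, Finset.mul_sum, mul_comm, mul_left_comm]
        exact Finset.sum_comm
    _ = f x y := rfl

/-- The polar form on pure tensors. -/
lemma form_tmul {f : (ι → F) → (ι → F) → F} {f₁ : (Fin n₁ → F) → (Fin n₁ → F) → F}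
    {f₂ : (Fin n₂ → F) → (Fin n₂ → F) → F} (h₁ : Geo.IsBilinearForm f₁) (h₂ : Geo.IsBilinearForm f₂)
    {e : ι ≃ Fin n₁ × Fin n₂} {P : GL ι F} (hT : Geo.IsTensorFormStructure id f f₁ f₂ e P) :
    ∃ c : F, c ≠ 0 ∧ ∀ x x' y y', f (tmul e P x y) (tmul e P x' y') = c * (f₁ x x' * f₂ y y') := by
  obtain ⟨c, hc, hf⟩ := hT
  refine ⟨c, hc, fun x x' y y' => ?_⟩
  rw [tmul_apply, tmul_apply, cvec_apply, cvec_apply, hf, ← formOfGram_gramMatrix h₁, ← formOfGram_gramMatrix h₂]
  congr 1
  simp only [Geo.formOfGram, Fintype.sum_prod_type, Matrix.kronecker_apply, id]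
  rw [Finset.sum_mul_sum]
  refine Finset.sum_congr rfl fun i _ => Finset.sum_congr rfl fun j _ => ?_
  rw [Finset.sum_mul_sum]
  refine Finset.sum_congr rfl fun k _ => Finset.sum_congr rfl fun l _ => ?_
  ring

/-! ### Isometries, reflections and commutators -/

lemma mem_isometryGroup {Q : (ι → F) → F} {g : GL ι F} :
    g ∈ isometryGroup F Q ↔ ∀ v, Q ((g : Matrix ι ι F) *ᵥ v) = Q v :=
  ⟨fun h v => h v v, fun h u _ => h u⟩

lemma polar_isometry {Q : (ι → F) → F} {g : GL ι F} (hg : g ∈ isometryGroup F Q) (u v : ι → F) :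
    QuadraticMap.polar Q ((g : Matrix ι ι F) *ᵥ u) ((g : Matrix ι ι F) *ᵥ v) = QuadraticMap.polar Q u v := by
  rw [mem_isometryGroup] at hg
  simp [QuadraticMap.polar, ← Matrix.mulVec_add, hg]

lemma omegaGL_le (Q : (ι → F) → F) : Geo.omegaGL Q ≤ isometryGroup F Q := by
  rintro _ ⟨g, -, rfl⟩
  exact g.2

lemma commutator_mem_omegaGL {Q : (ι → F) → F} {g h : GL ι F} (hg : g ∈ isometryGroup F Q)
    (hh : h ∈ isometryGroup F Q) : g * h * g⁻¹ * h⁻¹ ∈ Geo.omegaGL Q :=
  Subgroup.mem_map.mpr ⟨(⟨g, hg⟩ : isometryGroup F Q) * ⟨h, hh⟩ * (⟨g, hg⟩ : isometryGroup F Q)⁻¹ *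
      (⟨h, hh⟩ : isometryGroup F Q)⁻¹,
    Subgroup.commutator_mem_commutator (Subgroup.mem_top _) (Subgroup.mem_top _),
    by simp⟩

/-- `Ω` is normalised by the isometries. -/
lemma conj_mem_omegaGL {Q : (ι → F) → F} {g h : GL ι F} (hg : g ∈ isometryGroup F Q)
    (hh : h ∈ Geo.omegaGL Q) : g * h * g⁻¹ ∈ Geo.omegaGL Q := by
  obtain ⟨k, hk, rfl⟩ := hh
  exact ⟨⟨g, hg⟩ * k * ⟨g, hg⟩⁻¹, (inferInstance : (Omega F Q).Normal).conj_mem _ hk _, rfl⟩

section refl

variable {Q : (ι → F) → F} (hQ : Geo.IsNondegenerateQuadraticForm Q)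
include hQ

lemma polar_self (v : ι → F) : QuadraticMap.polar Q v v = 2 * Q v := by
  have h : Q (v + v) = 2 ^ 2 * Q v := by rw [← hQ.smul, two_smul]
  rw [QuadraticMap.polar, h]; ring

lemma quad_zero : Q 0 = 0 := by
  have h := hQ.smul 0 0
  simpa using h

/-- The reflection in a vector of non-zero value, as a matrix. -/
noncomputable def reflLin (u : ι → F) : (ι → F) →ₗ[F] (ι → F) where
  toFun x := x - (QuadraticMap.polar Q x u / Q u) • u
  map_add' x y := by
    rw [hQ.polar_bilinear.add_left, add_div, add_smul]; abel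
  map_smul' c x := by
    rw [hQ.polar_bilinear.smul_left, RingHom.id_apply, mul_div_assoc, smul_sub, smul_smul]

lemma reflLin_apply (u x : ι → F) : reflLin hQ u x = x - (QuadraticMap.polar Q x u / Q u) • u := rfl

lemma polar_reflLin {u : ι → F} (hu : Q u ≠ 0) (x : ι → F) :
    QuadraticMap.polar Q (reflLin hQ u x) u = - QuadraticMap.polar Q x u := by
  rw [reflLin_apply, sub_eq_add_neg, hQ.polar_bilinear.add_left, ← neg_smul, hQ.polar_bilinear.smul_left,
    polar_self hQ]
  field_simp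
  ring

lemma reflLin_reflLin {u : ι → F} (hu : Q u ≠ 0) (x : ι → F) : reflLin hQ u (reflLin hQ u x) = x := by
  rw [reflLin_apply hQ u (reflLin hQ u x), polar_reflLin hQ hu, neg_div, neg_smul, sub_neg_eq_add, reflLin_apply,
    sub_add_cancel]

open Classical in
/-- The reflection in `u` (the identity if `Q u = 0`). -/
noncomputable def reflGL (u : ι → F) : GL ι F :=
  if h : Q u ≠ 0 then
    { val := LinearMap.toMatrix' (reflLin hQ u)
      inv := LinearMap.toMatrix' (reflLin hQ u)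
      val_inv := by
        rw [← LinearMap.toMatrix'_comp, ← LinearMap.toMatrix'_id]
        exact congrArg _ (LinearMap.ext (reflLin_reflLin hQ h))
      inv_val := by
        rw [← LinearMap.toMatrix'_comp, ← LinearMap.toMatrix'_id]
        exact congrArg _ (LinearMap.ext (reflLin_reflLin hQ h)) }
  else 1

lemma refl_mulVec {u : ι → F} (hu : Q u ≠ 0) (x : ι → F) :
    ((reflGL hQ u : GL ι F) : Matrix ι ι F) *ᵥ x = x - (QuadraticMap.polar Q x u / Q u) • u := by
  rw [reflGL, dif_pos hu]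
  change LinearMap.toMatrix' (reflLin hQ u) *ᵥ x = _
  rw [← Matrix.toLin'_apply, Matrix.toLin'_toMatrix', reflLin_apply]

lemma refl_inv {u : ι → F} (hu : Q u ≠ 0) : (reflGL hQ u)⁻¹ = reflGL hQ u := by
  rw [reflGL, dif_pos hu]
  exact Units.ext rfl

lemma refl_mem {u : ι → F} (hu : Q u ≠ 0) : reflGL hQ u ∈ isometryGroup F Q := by
  rw [mem_isometryGroup]
  intro x
  rw [refl_mulVec hQ hu]
  have h : QuadraticMap.polar Q x ((-(QuadraticMap.polar Q x u / Q u)) • u) =
      (-(QuadraticMap.polar Q x u / Q u)) * QuadraticMap.polar Q x u := hQ.polar_bilinear.smul_right _ _ _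
  rw [QuadraticMap.polar, hQ.smul] at h
  rw [sub_eq_add_neg, ← neg_smul]
  have h3 : (QuadraticMap.polar Q x u / Q u) ^ 2 * Q u =
      (QuadraticMap.polar Q x u / Q u) * QuadraticMap.polar Q x u := by field_simp
  linear_combination h + h3

end refl

end CfsgLib.TensorNonmax
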