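import Cfsg.Agent.TensorNonmax.Basic

/-!
# Clifford generators inside `End(F^k)` for a symplectic form with `k ∈ {2, 4}` in characteristic two

`spinSet f` is the set of `f`-self-adjoint matrices (alternating if `k = 4`) with scalar square.  Its
elements pairwise anticommute up to a scalar and generate the whole matrix algebra.
-/

namespace CfsgLib.TensorNonmax

open scoped Matrix
open Cfsg

variable {F : Type*} [Field F] {k : ℕ}

/-- The candidates for Clifford generators of one tensor factor. -/
def spinSet (f : (Fin k → F) → (Fin k → F) → F) : Set (Matrix (Fin k) (Fin k) F) :=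
  {M | (∀ x y, f (M *ᵥ x) y = f x (M *ᵥ y)) ∧ (k = 4 → ∀ x, f (M *ᵥ x) x = 0) ∧
    ∃ s : F, M * M = s • (1 : Matrix (Fin k) (Fin k) F)}

/-- What the rest of the argument needs from one tensor factor. -/
structure SpinFacts (f : (Fin k → F) → (Fin k → F) → F) : Prop where
  one : (1 : Matrix (Fin k) (Fin k) F) ∈ spinSet f
  anticomm : ∀ M ∈ spinSet f, ∀ N ∈ spinSet f, ∃ s : F, M * N + N * M = s • (1 : Matrix (Fin k) (Fin k) F)
  pair : ∃ E ∈ spinSet f, ∃ G ∈ spinSet f, E * E = 0 ∧ G * G = 0 ∧ E * G + G * E = 1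
  generates : ∀ C : Subalgebra F (Matrix (Fin k) (Fin k) F), spinSet f ⊆ C → C = ⊤

lemma spinSet_transfer {f g : (Fin k → F) → (Fin k → F) → F} (B : GL (Fin k) F) {l : F}
    (h : ∀ x y, f ((B : Matrix (Fin k) (Fin k) F) *ᵥ x) ((B : Matrix (Fin k) (Fin k) F) *ᵥ y) = l * g x y)
    {M : Matrix (Fin k) (Fin k) F} (hM : M ∈ spinSet g) :
    (B : Matrix (Fin k) (Fin k) F) * M * ((B⁻¹ : GL (Fin k) F) : Matrix (Fin k) (Fin k) F) ∈ spinSet f := by
  obtain ⟨h1, h2, s, hs⟩ := hM
  have hsurj : ∀ x : Fin k → F, ∃ x', (B : Matrix (Fin k) (Fin k) F) *ᵥ x' = x := fun x =>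
    ⟨((B⁻¹ : GL (Fin k) F) : Matrix (Fin k) (Fin k) F) *ᵥ x, by
      rw [Matrix.mulVec_mulVec, ← Units.val_mul, mul_inv_cancel, Units.val_one, Matrix.one_mulVec]⟩
  have hact : ∀ x', ((B : Matrix (Fin k) (Fin k) F) * M * ((B⁻¹ : GL (Fin k) F) : Matrix (Fin k) (Fin k) F)) *ᵥ
      ((B : Matrix (Fin k) (Fin k) F) *ᵥ x') = (B : Matrix (Fin k) (Fin k) F) *ᵥ (M *ᵥ x') := fun x' => by
    rw [Matrix.mulVec_mulVec, mul_assoc _ _ (B : Matrix (Fin k) (Fin k) F), ← Units.val_mul, inv_mul_cancel,
      Units.val_one, mul_one, ← Matrix.mulVec_mulVec]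
  refine ⟨fun x y => ?_, fun hk x => ?_, s, ?_⟩
  · obtain ⟨x', rfl⟩ := hsurj x
    obtain ⟨y', rfl⟩ := hsurj y
    rw [hact, hact, h, h, h1]
  · obtain ⟨x', rfl⟩ := hsurj x
    rw [hact, h, h2 hk, mul_zero]
  · rw [show (B : Matrix (Fin k) (Fin k) F) * M * ((B⁻¹ : GL (Fin k) F) : Matrix (Fin k) (Fin k) F) *
        ((B : Matrix (Fin k) (Fin k) F) * M * ((B⁻¹ : GL (Fin k) F) : Matrix (Fin k) (Fin k) F)) =
      (B : Matrix (Fin k) (Fin k) F) * (M * (((B⁻¹ : GL (Fin k) F) : Matrix (Fin k) (Fin k) F) *
        (B : Matrix (Fin k) (Fin k) F)) * M) * ((B⁻¹ : GL (Fin k) F) : Matrix (Fin k) (Fin k) F) by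
      simp only [mul_assoc]]
    rw [← Units.val_mul B⁻¹ B, inv_mul_cancel, Units.val_one, mul_one, hs, Matrix.mul_smul, mul_one,
      Matrix.smul_mul, ← Units.val_mul, mul_inv_cancel, Units.val_one]

lemma SpinFacts.transfer {f g : (Fin k → F) → (Fin k → F) → F} (B : GL (Fin k) F) {l : F} (hl : l ≠ 0)
    (h : ∀ x y, f ((B : Matrix (Fin k) (Fin k) F) *ᵥ x) ((B : Matrix (Fin k) (Fin k) F) *ᵥ y) = l * g x y)
    (hg : SpinFacts g) : SpinFacts f := by
  let φ : Matrix (Fin k) (Fin k) F →ₐ[F] Matrix (Fin k) (Fin k) F :=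
    { toFun := fun M => (B : Matrix (Fin k) (Fin k) F) * M * ((B⁻¹ : GL (Fin k) F) : Matrix (Fin k) (Fin k) F)
      map_one' := by rw [mul_one, ← Units.val_mul, mul_inv_cancel, Units.val_one]
      map_mul' := fun M N => by
        simp only [mul_assoc]
        rw [← mul_assoc ((B⁻¹ : GL (Fin k) F) : Matrix (Fin k) (Fin k) F) (B : Matrix (Fin k) (Fin k) F),
          ← Units.val_mul, inv_mul_cancel, Units.val_one, one_mul]
      map_zero' := by simp
      map_add' := fun M N => by rw [mul_add, add_mul]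
      commutes' := fun c => by
        rw [Algebra.algebraMap_eq_smul_one, Matrix.mul_smul, mul_one, Matrix.smul_mul, ← Units.val_mul,
          mul_inv_cancel, Units.val_one] }
  have hto : ∀ M ∈ spinSet g, φ M ∈ spinSet f := fun M hM => spinSet_transfer B h hM
  have hback : ∀ x y, g (((B⁻¹ : GL (Fin k) F) : Matrix (Fin k) (Fin k) F) *ᵥ x)
      (((B⁻¹ : GL (Fin k) F) : Matrix (Fin k) (Fin k) F) *ᵥ y) = l⁻¹ * f x y := by
    intro x y
    have h' := h (((B⁻¹ : GL (Fin k) F) : Matrix (Fin k) (Fin k) F) *ᵥ x)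
      (((B⁻¹ : GL (Fin k) F) : Matrix (Fin k) (Fin k) F) *ᵥ y)
    rw [Matrix.mulVec_mulVec, Matrix.mulVec_mulVec, ← Units.val_mul, mul_inv_cancel, Units.val_one,
      Matrix.one_mulVec, Matrix.one_mulVec] at h'
    rw [h', ← mul_assoc, inv_mul_cancel₀ hl, one_mul]
  have hfrom : ∀ M ∈ spinSet f, ∃ N ∈ spinSet g, φ N = M := fun M hM =>
    ⟨_, spinSet_transfer B⁻¹ hback hM, by
      change (B : Matrix (Fin k) (Fin k) F) * _ * _ = M
      rw [inv_inv]
      simp only [← mul_assoc]
      rw [← Units.val_mul, mul_inv_cancel, Units.val_one, one_mul, mul_assoc, ← Units.val_mul, mul_inv_cancel,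
        Units.val_one, mul_one]⟩
  refine ⟨map_one φ ▸ hto _ hg.one, fun M hM N hN => ?_, ?_, fun C hC => ?_⟩
  · obtain ⟨M', hM', rfl⟩ := hfrom M hM
    obtain ⟨N', hN', rfl⟩ := hfrom N hN
    obtain ⟨s, hs⟩ := hg.anticomm M' hM' N' hN'
    exact ⟨s, by rw [← map_mul, ← map_mul, ← map_add, hs, map_smul, map_one]⟩
  · obtain ⟨E, hE, G, hG, h1, h2, h3⟩ := hg.pair
    exact ⟨φ E, hto E hE, φ G, hto G hG, by rw [← map_mul, h1, map_zero], by rw [← map_mul, h2, map_zero],
      by rw [← map_mul, ← map_mul, ← map_add, h3, map_one]⟩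
  · have := hg.generates (C.comap φ) fun M hM => hC (hto M hM)
    rw [eq_top_iff]
    intro M _
    have hM : ((B⁻¹ : GL (Fin k) F) : Matrix (Fin k) (Fin k) F) * M * (B : Matrix (Fin k) (Fin k) F) ∈ C.comap φ :=
      this ▸ Algebra.mem_top
    have hM' : φ (((B⁻¹ : GL (Fin k) F) : Matrix (Fin k) (Fin k) F) * M * (B : Matrix (Fin k) (Fin k) F)) = M := by
      change (B : Matrix (Fin k) (Fin k) F) * _ * _ = M
      simp only [← mul_assoc]
      rw [← Units.val_mul, mul_inv_cancel, Units.val_one, one_mul, mul_assoc, ← Units.val_mul, mul_inv_cancel,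
        Units.val_one, mul_one]
    exact hM' ▸ hM

/-- The standard form in dimension two. -/
def stdForm2 (x y : Fin 2 → F) : F := x 0 * y 1 + x 1 * y 0

/-- The standard form in dimension four. -/
def stdForm4 (x y : Fin 4 → F) : F := x 0 * y 1 + x 1 * y 0 + x 2 * y 3 + x 3 * y 2

lemma subalgebra_eq_top {C : Subalgebra F (Matrix (Fin k) (Fin k) F)}
    (h : ∀ i j, Matrix.single i j (1 : F) ∈ C) : C = ⊤ := by
  rw [eq_top_iff]
  intro M _
  rw [Matrix.matrix_eq_sum_single M]
  refine sum_mem fun i _ => sum_mem fun j _ => ?_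
  have : Matrix.single i j (M i j) = M i j • Matrix.single i j (1 : F) := by simp
  rw [this]
  exact C.smul_mem (h i j) _

lemma spinFacts_std2 (h2 : (2 : F) = 0) : SpinFacts (stdForm2 : (Fin 2 → F) → (Fin 2 → F) → F) := by
  have hchar : ∀ M ∈ spinSet (stdForm2 : (Fin 2 → F) → (Fin 2 → F) → F), M 1 1 = M 0 0 := by
    intro M hM
    have h := hM.1 ![1, 0] ![0, 1]
    simpa [stdForm2, Matrix.mulVec, dotProduct, Fin.sum_univ_two, eq_comm] using h
  have hmem : ∀ a b c : F, (!![a, b; c, a] : Matrix (Fin 2) (Fin 2) F) ∈ spinSet stdForm2 := by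
    intro a b c
    refine ⟨fun x y => ?_, fun h => absurd h (by norm_num), a * a + b * c, ?_⟩
    · simp [stdForm2, Matrix.mulVec, dotProduct, Fin.sum_univ_two]
      linear_combination (c * x 0 * y 0 - c * x 0 * y 0 + 0 * b) * h2
    · ext i j
      fin_cases i <;> fin_cases j <;> simp [Matrix.mul_apply, Fin.sum_univ_two] <;>
        first
          | ring1
          | linear_combination (a * b) * h2
          | linear_combination (a * c) * h2
  refine ⟨by simpa [Matrix.one_fin_two] using hmem 1 0 0, fun M hM N hN => ?_,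
    ⟨!![0, 1; 0, 0], hmem 0 1 0, !![0, 0; 1, 0], hmem 0 0 1, ?_, ?_, ?_⟩, fun C hC => ?_⟩
  · refine ⟨M 0 1 * N 1 0 + N 0 1 * M 1 0, ?_⟩
    ext i j
    fin_cases i <;> fin_cases j <;> simp [Matrix.mul_apply, Fin.sum_univ_two, hchar M hM, hchar N hN] <;>
      first
        | ring1
        | linear_combination (M 0 0 * N 0 0) * h2
        | linear_combination (M 0 0 * N 0 1 + N 0 0 * M 0 1) * h2
        | linear_combination (M 0 0 * N 1 0 + N 0 0 * M 1 0) * h2
  · ext i j; fin_cases i <;> fin_cases j <;> simp [Matrix.mul_apply, Fin.sum_univ_two]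
  · ext i j; fin_cases i <;> fin_cases j <;> simp [Matrix.mul_apply, Fin.sum_univ_two]
  · ext i j; fin_cases i <;> fin_cases j <;> simp [Matrix.mul_apply, Fin.sum_univ_two]
  · have hE : (!![0, 1; 0, 0] : Matrix (Fin 2) (Fin 2) F) ∈ C := hC (hmem 0 1 0)
    have hG : (!![0, 0; 1, 0] : Matrix (Fin 2) (Fin 2) F) ∈ C := hC (hmem 0 0 1)
    have h01 : Matrix.single (0 : Fin 2) (1 : Fin 2) (1 : F) ∈ C := by
      convert hE using 1
      ext i j; fin_cases i <;> fin_cases j <;> simp
    have h10 : Matrix.single (1 : Fin 2) (0 : Fin 2) (1 : F) ∈ C := by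
      convert hG using 1
      ext i j; fin_cases i <;> fin_cases j <;> simp
    refine subalgebra_eq_top fun i j => ?_
    fin_cases i <;> fin_cases j
    · have := mul_mem h01 h10; rwa [Matrix.single_mul_single_same, one_mul] at this
    · exact h01
    · exact h10
    · have := mul_mem h10 h01; rwa [Matrix.single_mul_single_same, one_mul] at this

/-- The general element of the spin set of the standard form in dimension four. -/
def std4 (a b c d e : F) : Matrix (Fin 4) (Fin 4) F := !![a, 0, b, c; 0, a, d, e; e, c, a, 0; d, b, 0, a]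

lemma spinFacts_std4 (h2 : (2 : F) = 0) : SpinFacts (stdForm4 : (Fin 4 → F) → (Fin 4 → F) → F) := by
  have hneg : ∀ x : F, -x = x := fun x => by linear_combination (-x) * h2
  have hchar : ∀ M ∈ spinSet (stdForm4 : (Fin 4 → F) → (Fin 4 → F) → F),
      M = std4 (M 0 0) (M 0 2) (M 0 3) (M 1 2) (M 1 3) := by
    rintro M ⟨hs, ha, s, hsq⟩
    have a0 := ha rfl (Pi.single 0 1)
    have a1 := ha rfl (Pi.single 1 1)
    have a2 := ha rfl (Pi.single 2 1)
    have a3 := ha rfl (Pi.single 3 1)
    have s01 := hs (Pi.single 0 1) (Pi.single 1 1)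
    have s02 := hs (Pi.single 0 1) (Pi.single 2 1)
    have s03 := hs (Pi.single 0 1) (Pi.single 3 1)
    have s12 := hs (Pi.single 1 1) (Pi.single 2 1)
    have s13 := hs (Pi.single 1 1) (Pi.single 3 1)
    have s23 := hs (Pi.single 2 1) (Pi.single 3 1)
    simp [stdForm4, Matrix.mulVec_single_one] at a0 a1 a2 a3 s01 s02 s03 s12 s13 s23
    have q00 := congrFun (congrFun hsq 0) 0
    have q22 := congrFun (congrFun hsq 2) 2
    simp [Matrix.mul_apply, Fin.sum_univ_four, a0, a1, a2, a3, s01, s02, s03, s12, s13, s23] at q00 q22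
    have had : M 2 2 = M 0 0 := by
      have hsq2 : (M 0 0 + M 2 2) * (M 0 0 + M 2 2) = 0 := by
        rw [s01, s23]
        linear_combination q00 + q22 + (M 1 1 * M 3 3 - M 0 2 * M 1 3 - M 0 3 * M 1 2 + s) * h2
      have := mul_self_eq_zero.mp hsq2
      linear_combination this - (M 0 0) * h2
    ext i j
    fin_cases i <;> fin_cases j <;> simp [std4] <;>
      simp_all
  have hmem : ∀ a b c d e : F, std4 a b c d e ∈ spinSet (stdForm4 : (Fin 4 → F) → (Fin 4 → F) → F) := by
    intro a b c d e
    refine ⟨fun x y => ?_, fun _ x => ?_, a * a + b * e + c * d, ?_⟩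
    · simp [std4, stdForm4, Matrix.mulVec, dotProduct, Fin.sum_univ_four]
      ring
    · simp [std4, stdForm4, Matrix.mulVec, dotProduct, Fin.sum_univ_four]
      linear_combination (a * x 0 * x 1 + b * x 2 * x 1 + c * x 3 * x 1 + d * x 2 * x 0 + e * x 3 * x 0
        + a * x 2 * x 3) * h2
    · ext i j
      fin_cases i <;> fin_cases j <;> simp [std4, Matrix.mul_apply, Fin.sum_univ_four] <;>
        first
          | ring1
          | linear_combination (a * b) * h2
          | linear_combination (a * c) * h2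
          | linear_combination (a * d) * h2
          | linear_combination (a * e) * h2
          | linear_combination (b * c) * h2
          | linear_combination (d * e) * h2
          | linear_combination (b * d) * h2
          | linear_combination (c * e) * h2
  refine ⟨?_, fun M hM N hN => ?_, ⟨std4 0 1 0 0 0, hmem _ _ _ _ _, std4 0 0 0 0 1, hmem _ _ _ _ _, ?_, ?_, ?_⟩,
    fun C hC => ?_⟩
  · convert hmem 1 0 0 0 0 using 1
    ext i j; fin_cases i <;> fin_cases j <;> simp [std4]
  · rw [hchar M hM, hchar N hN]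
    generalize M 0 0 = a, M 0 2 = b, M 0 3 = c, M 1 2 = d, M 1 3 = e
    generalize N 0 0 = a', N 0 2 = b', N 0 3 = c', N 1 2 = d', N 1 3 = e'
    refine ⟨b * e' + b' * e + c * d' + c' * d, ?_⟩
    ext i j
    fin_cases i <;> fin_cases j <;> simp [std4, Matrix.mul_apply, Fin.sum_univ_four] <;>
      first
        | ring1
        | linear_combination (a * a') * h2
        | linear_combination (a * b' + a' * b) * h2
        | linear_combination (a * c' + a' * c) * h2
        | linear_combination (a * d' + a' * d) * h2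
        | linear_combination (a * e' + a' * e) * h2
        | linear_combination (b * c' + b' * c) * h2
        | linear_combination (d * e' + d' * e) * h2
        | linear_combination (b * d' + b' * d) * h2
        | linear_combination (c * e' + c' * e) * h2
  · ext i j; fin_cases i <;> fin_cases j <;> simp [std4, Matrix.mul_apply, Fin.sum_univ_four]
  · ext i j; fin_cases i <;> fin_cases j <;> simp [std4, Matrix.mul_apply, Fin.sum_univ_four]
  · ext i j; fin_cases i <;> fin_cases j <;> simp [std4, Matrix.mul_apply, Fin.sum_univ_four]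
  · have hE : std4 (0 : F) 1 0 0 0 ∈ C := hC (hmem _ _ _ _ _)
    have hG : std4 (0 : F) 0 0 0 1 ∈ C := hC (hmem _ _ _ _ _)
    have hE' : std4 (0 : F) 0 1 0 0 ∈ C := hC (hmem _ _ _ _ _)
    have hG' : std4 (0 : F) 0 0 1 0 ∈ C := hC (hmem _ _ _ _ _)
    have h00 : Matrix.single (0 : Fin 4) (0 : Fin 4) (1 : F) ∈ C := by
      convert mul_mem (mul_mem hE hG) (mul_mem hE' hG') using 1
      ext i j; fin_cases i <;> fin_cases j <;> simp [std4, Matrix.mul_apply, Fin.sum_univ_four]
    have h20 : Matrix.single (2 : Fin 4) (0 : Fin 4) (1 : F) ∈ C := by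
      convert mul_mem hG h00 using 1
      ext i j; fin_cases i <;> fin_cases j <;> simp [std4, Matrix.mul_apply, Fin.sum_univ_four]
    have h30 : Matrix.single (3 : Fin 4) (0 : Fin 4) (1 : F) ∈ C := by
      convert mul_mem hG' h00 using 1
      ext i j; fin_cases i <;> fin_cases j <;> simp [std4, Matrix.mul_apply, Fin.sum_univ_four]
    have h10 : Matrix.single (1 : Fin 4) (0 : Fin 4) (1 : F) ∈ C := by
      convert mul_mem hG' h20 using 1
      ext i j; fin_cases i <;> fin_cases j <;> simp [std4, Matrix.mul_apply, Fin.sum_univ_four]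
    have h02 : Matrix.single (0 : Fin 4) (2 : Fin 4) (1 : F) ∈ C := by
      convert mul_mem h00 hE using 1
      ext i j; fin_cases i <;> fin_cases j <;> simp [std4, Matrix.mul_apply, Fin.sum_univ_four]
    have h03 : Matrix.single (0 : Fin 4) (3 : Fin 4) (1 : F) ∈ C := by
      convert mul_mem h00 hE' using 1
      ext i j; fin_cases i <;> fin_cases j <;> simp [std4, Matrix.mul_apply, Fin.sum_univ_four]
    have h01 : Matrix.single (0 : Fin 4) (1 : Fin 4) (1 : F) ∈ C := by
      convert mul_mem h02 hE' using 1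
      ext i j; fin_cases i <;> fin_cases j <;> simp [std4, Matrix.mul_apply, Fin.sum_univ_four]
    refine subalgebra_eq_top fun i j => ?_
    have hi : Matrix.single i (0 : Fin 4) (1 : F) ∈ C := by
      fin_cases i
      exacts [h00, h10, h20, h30]
    have hj : Matrix.single (0 : Fin 4) j (1 : F) ∈ C := by
      fin_cases j
      exacts [h00, h01, h02, h03]
    have := mul_mem hi hj
    rwa [Matrix.single_mul_single_same, one_mul] at this

/-- A symplectic form has a hyperbolic pair, and a second orthogonal one in dimension at least three. -/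
lemma exists_spinFacts (h2 : (2 : F) = 0) {f : (Fin k → F) → (Fin k → F) → F} (hf : Geo.IsSymplecticForm f)
    (hk0 : 0 < k) (hk : k ≤ 4) : (k = 2 ∨ k = 4) ∧ SpinFacts f := by
  have hb := hf.bilinear
  let B : LinearMap.BilinForm F (Fin k → F) :=
    LinearMap.mk₂ F f (fun a b c => hb.add_left a b c) (fun a b c => hb.smul_left a b c)
      (fun a b c => hb.add_right a b c) (fun a b c => hb.smul_right a b c)
  have hsym : ∀ u w, f u w = f w u := fun u w => by
    rw [hf.skew]; linear_combination (-(f w u)) * h2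
  have one : ∀ u, u ≠ 0 → ∃ w, f u w = 1 := by
    intro u hu
    obtain ⟨w, hw⟩ := (hf.nondegenerate u hu).2
    exact ⟨(f u w)⁻¹ • w, by rw [hb.smul_right, inv_mul_cancel₀ hw]⟩
  set p : Fin k → F := Pi.single ⟨0, hk0⟩ 1 with hp
  obtain ⟨q, hpq⟩ := one p (by simp [hp])
  have hqp : f q p = 1 := by rw [hsym]; exact hpq
  have hpq_ind : LinearIndependent F ![p, q] := by
    rw [LinearIndependent.pair_iff]
    intro s t hst
    have h1 := congrArg (fun z => B z p) hst
    have h2' := congrArg (fun z => B z q) hst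
    simp [B, hb.add_left, hb.smul_left, hf.alternating, hpq, hqp] at h1 h2'
    exact ⟨h2', h1⟩
  have h2k : 2 ≤ k := by
    have := hpq_ind.fintype_card_le_finrank
    simpa using this
  -- the change of basis to a standard form
  have finish : ∀ (m : ℕ) (g : (Fin m → F) → (Fin m → F) → F) (ε : Fin m → (Fin m → F)),
      ∀ (f' : (Fin m → F) → (Fin m → F) → F), Geo.IsBilinearForm f' →
      (∀ x y, (∑ i, ∑ j, x i * y j * f' (ε i) (ε j)) = g x y) →
      (∀ x, (∀ y, g x y = 0) → x = 0) → SpinFacts g → SpinFacts f' := by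
    intro m g ε f' hb' hfg hsep hg
    let B' : LinearMap.BilinForm F (Fin m → F) :=
      LinearMap.mk₂ F f' (fun a b c => hb'.add_left a b c) (fun a b c => hb'.smul_left a b c)
        (fun a b c => hb'.add_right a b c) (fun a b c => hb'.smul_right a b c)
    let L : (Fin m → F) →ₗ[F] (Fin m → F) := Fintype.linearCombination F ε
    have hL : ∀ x y, f' (L x) (L y) = g x y := by
      intro x y
      rw [← hfg]
      change B' (L x) (L y) = _
      simp [L, Fintype.linearCombination_apply, map_sum, Finset.mul_sum, B', mul_assoc]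
      rw [Finset.sum_comm]
      exact Finset.sum_congr rfl fun i _ => Finset.sum_congr rfl fun j _ => by ring
    have hinj : Function.Injective L := by
      rw [injective_iff_map_eq_zero]
      intro x hx
      refine hsep x fun y => ?_
      rw [← hL, hx]
      change B' 0 (L y) = 0
      simp
    let e : (Fin m → F) ≃ₗ[F] (Fin m → F) := LinearEquiv.ofInjectiveEndo L hinj
    let Bm : GL (Fin m) F :=
      { val := LinearMap.toMatrix' (e : (Fin m → F) →ₗ[F] (Fin m → F))
        inv := LinearMap.toMatrix' (e.symm : (Fin m → F) →ₗ[F] (Fin m → F))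
        val_inv := by rw [← LinearMap.toMatrix'_comp, LinearEquiv.comp_symm, LinearMap.toMatrix'_id]
        inv_val := by rw [← LinearMap.toMatrix'_comp, LinearEquiv.symm_comp, LinearMap.toMatrix'_id] }
    refine hg.transfer Bm one_ne_zero fun x y => ?_
    have hB : ∀ z, (Bm : Matrix (Fin m) (Fin m) F) *ᵥ z = L z := fun z => by
      change LinearMap.toMatrix' (e : (Fin m → F) →ₗ[F] (Fin m → F)) *ᵥ z = L z
      rw [← Matrix.toLin'_apply, Matrix.toLin'_toMatrix']
      rfl
    rw [one_mul, hB, hB, hL]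
  rcases Nat.lt_or_ge 2 k with hk3 | hk3
  · obtain ⟨r, hr, hpr, hqr⟩ : ∃ r, r ≠ 0 ∧ f p r = 0 ∧ f q r = 0 := by
      have hker : 0 < Module.finrank F (LinearMap.ker ((B p).prod (B q))) := by
        have h := ((B p).prod (B q)).finrank_range_add_finrank_ker
        have hr : Module.finrank F (LinearMap.range ((B p).prod (B q))) ≤ 2 :=
          (Submodule.finrank_le _).trans (by simp)
        rw [Module.finrank_pi, Fintype.card_fin] at h
        omega
      obtain ⟨⟨r, hr⟩, hr0⟩ := Module.finrank_pos_iff_exists_ne_zero.mp hker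
      have h' := LinearMap.mem_ker.mp hr
      exact ⟨r, fun h => hr0 (Subtype.ext h), congrArg Prod.fst h', congrArg Prod.snd h'⟩
    obtain ⟨s', hs'⟩ := one r hr
    set s := s' + (f s' q • p + f s' p • q) with hs
    have hps : f p s = 0 := by
      simp only [hs, hb.add_right, hb.smul_right, hf.alternating, hpq, mul_zero, mul_one, zero_add]
      rw [hsym p s']; linear_combination (f s' p) * h2
    have hqs : f q s = 0 := by
      simp only [hs, hb.add_right, hb.smul_right, hf.alternating, hqp, mul_zero, mul_one, add_zero]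
      rw [hsym q s']; linear_combination (f s' q) * h2
    have hrs : f r s = 1 := by
      rw [hs, hb.add_right, hb.add_right, hb.smul_right, hb.smul_right, hs', hsym r p, hsym r q, hpr, hqr]
      ring
    have hrp : f r p = 0 := by rw [hsym]; exact hpr
    have hrq : f r q = 0 := by rw [hsym]; exact hqr
    have hsp : f s p = 0 := by rw [hsym]; exact hps
    have hsq : f s q = 0 := by rw [hsym]; exact hqs
    have hsr : f s r = 1 := by rw [hsym]; exact hrs
    have hind : LinearIndependent F ![p, q, r, s] := by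
      rw [Fintype.linearIndependent_iff]
      intro g hg i
      have h1 := congrArg (fun z => B z q) hg
      have h2' := congrArg (fun z => B z p) hg
      have h3 := congrArg (fun z => B z s) hg
      have h4 := congrArg (fun z => B z r) hg
      simp [B, Fin.sum_univ_four, hb.add_left, hb.smul_left, hf.alternating, hpq, hqp, hpr, hps, hqr, hqs, hrp, hrq,
        hrs, hsp, hsq, hsr] at h1 h2' h3 h4
      fin_cases i
      exacts [h1, h2', h3, h4]
    have hk4 : k = 4 := by
      have := hind.fintype_card_le_finrank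
      simp at this
      omega
    subst hk4
    refine ⟨Or.inr rfl, finish 4 stdForm4 ![p, q, r, s] f hb (fun x y => ?_) (fun x hx => ?_) (spinFacts_std4 h2)⟩
    · simp [stdForm4, Fin.sum_univ_four, hf.alternating, hpq, hqp, hpr, hps, hqr, hqs, hrp, hrq, hrs, hsp, hsq, hsr]
    · have e0 := hx (Pi.single 1 1)
      have e1 := hx (Pi.single 0 1)
      have e2 := hx (Pi.single 3 1)
      have e3 := hx (Pi.single 2 1)
      simp [stdForm4] at e0 e1 e2 e3
      funext i
      fin_cases i
      exacts [e0, e1, e2, e3]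
  · have hk2 : k = 2 := by omega
    subst hk2
    refine ⟨Or.inl rfl, finish 2 stdForm2 ![p, q] f hb (fun x y => ?_) (fun x hx => ?_) (spinFacts_std2 h2)⟩
    · simp [stdForm2, Fin.sum_univ_two, hf.alternating, hpq, hqp]
    · have e0 := hx (Pi.single 1 1)
      have e1 := hx (Pi.single 0 1)
      simp [stdForm2] at e0 e1
      funext i
      fin_cases i
      exacts [e0, e1]

end CfsgLib.TensorNonmax
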